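set_option autoImplicit false
namespace Cfsg.Agent.Lib.Helper6.TCD.Suza
noncomputable def WI (i : Nat) : Nat := Nat.land (Nat.shiftRight 0x46482304117208b10454822841132089104448220410f2087104348218410b208510424821041072083104148208410320811040482004019200c1005c802c4015200a1004c8024401120081003c801c400d20061002c8014400920041001c800c400520021000c800440012000104087e023f001f010f8047c003f031e810f4047a003c031e010f00478003d041d818ec0876023b001d020e80c74043a011d000ec20720e39061c828e410720639021c808e400701038071c030e014700838031c010e004700038011b000d8046800340119000c8046000300117000b80458002c0115000a8045000280113000980448002401110008804400020010f000780438001c010d0006804300018010b0005804280014010900048042000100107000380018000a000400018000800020000 (Nat.mul 17 (Nat.land i 255))) 131071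
end Cfsg.Agent.Lib.Helper6.TCD.Suza
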