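import Cfsg.Agent.Lib.Helper6.TC1
import Cfsg.Agent.Lib.Helper6.TCD.Suza.Par
set_option autoImplicit false
set_option maxRecDepth 1000000
set_option Elab.async false
open Cfsg.Agent.Lib.Helper6.TC
namespace Cfsg.Agent.Lib.Helper6.TCD.Suza
theorem chkC : cntLive NH n tmax 12360 = 1782 := by decide +kernel
end Cfsg.Agent.Lib.Helper6.TCD.Suza
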