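import Cfsg.Agent.Lib.Helper6.TC11
import Cfsg.Agent.Lib.Helper6.TCD.Suza.Par
set_option autoImplicit false
set_option maxRecDepth 1000000
set_option Elab.async false
open Cfsg.Agent.Lib.Helper6.TC
namespace Cfsg.Agent.Lib.Helper6.TCD.Suza
theorem chkLab0 : chkLab lab H0 1782 = true := by decide +kernel
theorem chkLab1 : chkLab lab H1 1782 = true := by decide +kernel
theorem chkLab2 : chkLab lab H2 1782 = true := by decide +kernel
theorem chkLab3 : chkLab lab H3 1782 = true := by decide +kernel
theorem chkLab4 : chkLab lab H4 1782 = true := by decide +kernel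
theorem chkLab5 : chkLab lab H5 1782 = true := by decide +kernel
end Cfsg.Agent.Lib.Helper6.TCD.Suza
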