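import Cfsg.Agent.Lib.Helper6.TCD.Suza.CS0
import Cfsg.Agent.Lib.Helper6.TCD.Suza.CS1
import Cfsg.Agent.Lib.Helper6.TCD.Suza.CS2
import Cfsg.Agent.Lib.Helper6.TCD.Suza.CS3
import Cfsg.Agent.Lib.Helper6.TCD.Suza.CS4
import Cfsg.Agent.Lib.Helper6.TCD.Suza.CS5
import Cfsg.Agent.Lib.Helper6.TCD.Suza.CS6
import Cfsg.Agent.Lib.Helper6.TCD.Suza.CS7
import Cfsg.Agent.Lib.Helper6.TCD.Suza.CS8
import Cfsg.Agent.Lib.Helper6.TCD.Suza.CS9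
import Cfsg.Agent.Lib.Helper6.TCD.Suza.CS10
import Cfsg.Agent.Lib.Helper6.TCD.Suza.CN0
import Cfsg.Agent.Lib.Helper6.TCD.Suza.CN1
import Cfsg.Agent.Lib.Helper6.TCD.Suza.CN2
import Cfsg.Agent.Lib.Helper6.TCD.Suza.CC
import Cfsg.Agent.Lib.Helper6.TCD.Suza.CPa0
import Cfsg.Agent.Lib.Helper6.TCD.Suza.CPb
import Cfsg.Agent.Lib.Helper6.TCD.Suza.CPc0
import Cfsg.Agent.Lib.Helper6.TCD.Suza.CR0
import Cfsg.Agent.Lib.Helper6.TCD.Suza.CR1
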