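import Cfsg.Agent.Lib.Helper6.TCD.Suza.SHP0
import Cfsg.Agent.Lib.Helper6.TCD.Suza.SHP1
set_option autoImplicit false
namespace Cfsg.Agent.Lib.Helper6.TCD.Suza
noncomputable def SH (i : Nat) : Nat := Bool.rec (SHP0N62 i) (SHP1N19 i) (Nat.ble 65536 i)
end Cfsg.Agent.Lib.Helper6.TCD.Suza
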